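import Cfsg.Agent.Lib.Helper31.BG11a
import Cfsg.Agent.Lib.Helper24.Rank2Main
import Cfsg.Agent.Lib.Helper66.AbelianIndec

set_option autoImplicit false

namespace Cfsg.Agent.Lib.Helper59.BG1211Q3

open Subgroup Cfsg
open Cfsg.Agent.Lib
open Cfsg.Agent.Lib.Helper24 Cfsg.Agent.Lib.Helper34 Cfsg.Agent.Lib.Helper31.BG11

universe u

variable {G : Type u} [Group G] [Finite G]

/-- (Q3) -/
theorem exponent_eq_of_cut {p : ℕ} [Fact p.Prime] {V V' P C : Subgroup G} (hle : V' ≤ V)
    (hr : ∀ r : ℕ, r.Prime → r ≠ p → ¬ r ∣ V'.relIndex V) (hP : IsSylowIn p P V)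
    (hCV : C ≤ V') (hCc : IsCyclic C) (hexp : ∀ x ∈ P, x ^ Nat.card C = 1) :
    Monoid.exponent V' = Monoid.exponent V := by
  classical
  apply Nat.dvd_antisymm
  · exact Monoid.exponent_dvd_of_monoidHom (Subgroup.inclusion hle) (Subgroup.inclusion_injective hle)
  · rw [Monoid.exponent_dvd]
    intro g
    rw [Nat.dvd_iff_prime_pow_dvd_dvd]
    intro r k hrp hdvd
    have hrf : Fact r.Prime := ⟨hrp⟩
    rw [← Subgroup.orderOf_coe] at hdvd
    set g' : G := (g : G) ^ (orderOf (g : G) / r ^ k) with hg'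
    have hpos : 0 < orderOf (g : G) := orderOf_pos _
    have hg'V : g' ∈ V := V.pow_mem g.2 _
    have hord : orderOf g' = r ^ k := by
      rw [hg', orderOf_pow_of_dvd, Nat.div_div_self hdvd hpos.ne']
      · exact (Nat.div_pos (Nat.le_of_dvd hpos hdvd) (pow_pos hrp.pos k)).ne'
      · exact Nat.div_dvd_of_dvd hdvd
    have hpg : IsPGroup r (zpowers g') := IsPGroup.of_card (n := k) (by rw [Nat.card_zpowers, hord])
    have hzV : zpowers g' ≤ V := by rw [zpowers_le]; exact hg'V
    by_cases hrp' : r = p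
    · subst hrp'
      obtain ⟨n, hn, hnle⟩ := hP.exists_conj_le hzV hpg
      have h1 : n * g' * n⁻¹ ∈ P := hnle (conj_mem_map_conj (mem_zpowers g'))
      have h2 := hexp _ h1
      have h3 : orderOf (n * g' * n⁻¹) = r ^ k := by
        rw [← hord]; exact orderOf_injective (MulAut.conj n).toMonoidHom (MulAut.conj n).injective g'
      have h4 : r ^ k ∣ Nat.card C := by
        rw [← h3]; exact orderOf_dvd_of_pow_eq_one h2
      obtain ⟨c, hc⟩ := IsCyclic.exists_ofOrder_eq_natCard (α := C)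
      have h5 : orderOf (⟨(c : G), hCV c.2⟩ : V') = Nat.card C := by
        rw [← hc, ← Subgroup.orderOf_coe, ← Subgroup.orderOf_coe c]
      exact h4.trans (h5 ▸ Monoid.order_dvd_exponent _)
    · obtain ⟨Q, hQ, -⟩ := exists_isSylowIn_ge (p := r) (L := V') (R := ⊥) bot_le
        (IsPGroup.of_bot)
      have hQV : IsSylowIn r Q V := isSylowIn_of_normal_hall hle (hr r hrp hrp') hQ
      obtain ⟨n, hn, hnle⟩ := hQV.exists_conj_le hzV hpg
      have h1 : n * g' * n⁻¹ ∈ V' := hQ.1 (hnle (conj_mem_map_conj (mem_zpowers g')))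
      have h3 : orderOf (n * g' * n⁻¹) = r ^ k := by
        rw [← hord]; exact orderOf_injective (MulAut.conj n).toMonoidHom (MulAut.conj n).injective g'
      have h5 : orderOf (⟨n * g' * n⁻¹, h1⟩ : V') = r ^ k := by
        rw [← h3, ← Subgroup.orderOf_coe]
      exact h5 ▸ Monoid.order_dvd_exponent _

end Cfsg.Agent.Lib.Helper59.BG1211Q3
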