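import Cfsg.Agent.Lib.Helper31.BG11a
import Cfsg.Agent.Lib.Helper24.Rank2Main
import Cfsg.Agent.Lib.Helper66.AbelianIndec

set_option autoImplicit false

namespace Cfsg.Agent.Lib.Helper59.BG1211Q4

open Subgroup Cfsg

universe u

/-- an endomorphism of order dividing `r` without fixed points has zero norm -/
theorem geom_zero {M : Type*} [AddCommGroup M] {r : ℕ} (d : AddMonoid.End M) (hd : d ^ r = 1)
    (hf : ∀ a, d a = a → a = 0) : ∑ j ∈ Finset.range r, d ^ j = 0 := by
  have h1 : (d - 1) * ∑ j ∈ Finset.range r, d ^ j = 0 := by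
    rw [mul_geom_sum, hd, sub_self]
  ext a
  apply hf
  have h2 := DFunLike.congr_fun h1 a
  rw [sub_mul, one_mul] at h2
  have h3 : d ((∑ j ∈ Finset.range r, d ^ j) a) - (∑ j ∈ Finset.range r, d ^ j) a = 0 := h2
  exact sub_eq_zero.1 h3

theorem abstract_fpf {M : Type*} [AddCommGroup M] {r : ℕ} (hr : r.Prime) (σ τ : AddMonoid.End M)
    (hc : Commute σ τ) (hσ : σ ^ r = 1) (hτ : τ ^ r = 1) (hft : ∀ a, τ a = a → a = 0)
    (hfs : ∀ j : ℕ, ∀ a, (σ * τ ^ j) a = a → a = 0) : ∀ a : M, r • a = 0 := by
  have h1 : ∀ j : ℕ, ∑ k ∈ Finset.range r, (σ * τ ^ j) ^ k = 0 := by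
    intro j
    apply geom_zero _ _ (hfs j)
    rw [(hc.pow_right j).mul_pow, hσ, ← pow_mul, mul_comm, pow_mul, hτ, one_pow, one_mul]
  have h2 : ∀ k : ℕ, k ∈ Finset.range r → k ≠ 0 → ∑ j ∈ Finset.range r, (τ ^ k) ^ j = 0 := by
    intro k hk hk0
    apply geom_zero
    · rw [← pow_mul, mul_comm, pow_mul, hτ, one_pow]
    · intro a ha
      apply hft
      have hcop : Nat.Coprime k r := by
        rw [Nat.coprime_comm, hr.coprime_iff_not_dvd]
        intro hdvd
        have := Nat.le_of_dvd (Nat.pos_of_ne_zero hk0) hdvd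
        have := Finset.mem_range.1 hk
        omega
      obtain ⟨m, -, hm⟩ := Nat.exists_mul_mod_eq_one_of_coprime hcop hr.one_lt
      have h3 : ∀ i : ℕ, ((τ ^ k) ^ i) a = a := by
        intro i
        induction i with
        | zero => simp
        | succ i ih =>
          rw [pow_succ]
          show ((τ ^ k) ^ i) ((τ ^ k) a) = a
          rw [ha, ih]
      have h4 : τ = (τ ^ k) ^ m := by
        rw [← pow_mul, pow_eq_pow_mod _ hτ, hm, pow_one]
      rw [h4]
      exact h3 m
  have h3 : ∑ j ∈ Finset.range r, ∑ k ∈ Finset.range r, (σ * τ ^ j) ^ k = 0 :=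
    Finset.sum_eq_zero (fun j _ => h1 j)
  rw [Finset.sum_comm] at h3
  rw [Finset.sum_eq_single 0] at h3
  · intro a
    have := DFunLike.congr_fun h3 a
    simpa using this
  · intro k hk hk0
    have : ∀ j ∈ Finset.range r, (σ * τ ^ j) ^ k = σ ^ k * (τ ^ k) ^ j := by
      intro j _
      rw [(hc.pow_right j).mul_pow, ← pow_mul, ← pow_mul, mul_comm j k]
    rw [Finset.sum_congr rfl this, ← Finset.mul_sum, h2 k hk hk0, mul_zero]
  · intro h0
    exact absurd (Finset.mem_range.2 hr.pos) h0

variable {G : Type u} [Group G] [Finite G]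

/-- (Q4) -/
theorem pow_eq_one_of_two_fpf {A : Subgroup G} (hA : A ≤ centralizer (A : Set G)) {r : ℕ}
    (hr : r.Prime) {s t : G} (hs : s ∈ normalizer (A : Set G)) (ht : t ∈ normalizer (A : Set G))
    (hst : s * t = t * s) (hsr : s ^ r ∈ centralizer (A : Set G))
    (htr : t ^ r ∈ centralizer (A : Set G)) (hft : A ⊓ centralizer {t} = ⊥)
    (hfs : ∀ j : ℕ, A ⊓ centralizer {s * t ^ j} = ⊥) : ∀ a ∈ A, a ^ r = 1 := by
  classical
  let _ : CommGroup A :=
    { (inferInstance : Group A) with
      mul_comm := fun a b => Subtype.ext ((mem_centralizer_iff.1 (hA b.2) a a.2)) }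
  let Φ : (normalizer (A : Set G)) →* AddMonoid.End (Additive A) :=
    { toFun := fun d => AddMonoidHom.mk'
        (fun a => Additive.ofMul ⟨(d : G) * (Additive.toMul a : A) * (d : G)⁻¹,
          (mem_normalizer_iff.1 d.2 _).1 (Additive.toMul a).2⟩)
        (by
          intro a b
          apply Additive.toMul.injective
          apply Subtype.ext
          show (d : G) * ((Additive.toMul a : A) * (Additive.toMul b : A) : G) * (d : G)⁻¹ =
            ((d : G) * (Additive.toMul a : A) * (d : G)⁻¹) *
              ((d : G) * (Additive.toMul b : A) * (d : G)⁻¹)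
          group)
      map_one' := by
        refine DFunLike.ext _ _ fun a => ?_
        apply Additive.toMul.injective
        apply Subtype.ext
        show (1 : G) * (Additive.toMul a : A) * (1 : G)⁻¹ = (Additive.toMul a : A)
        simp
      map_mul' := by
        intro d d'
        refine DFunLike.ext _ _ fun a => ?_
        apply Additive.toMul.injective
        apply Subtype.ext
        show ((d : G) * (d' : G)) * (Additive.toMul a : A) * ((d : G) * (d' : G))⁻¹ =
          (d : G) * ((d' : G) * (Additive.toMul a : A) * (d' : G)⁻¹) * (d : G)⁻¹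
        group }
  have hΦ : ∀ (d : normalizer (A : Set G)) (a : Additive A),
      ((Additive.toMul (Φ d a) : A) : G) = (d : G) * (Additive.toMul a : A) * (d : G)⁻¹ :=
    fun _ _ => rfl
  have hΦ1 : ∀ d : normalizer (A : Set G), (d : G) ∈ centralizer (A : Set G) → Φ d = 1 := by
    intro d hd
    refine DFunLike.ext _ _ fun a => ?_
    apply Additive.toMul.injective
    apply Subtype.ext
    rw [hΦ]
    have := mem_centralizer_iff.1 hd _ (Additive.toMul a).2
    show (d : G) * (Additive.toMul a : A) * (d : G)⁻¹ = (Additive.toMul a : A)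
    rw [← this]; group
  have hΦfix : ∀ d : normalizer (A : Set G), A ⊓ centralizer {(d : G)} = ⊥ →
      ∀ a, Φ d a = a → a = 0 := by
    intro d hd a ha
    have h1 : (d : G) * (Additive.toMul a : A) * (d : G)⁻¹ = (Additive.toMul a : A) := by
      rw [← hΦ, ha]
    have h2 : ((Additive.toMul a : A) : G) ∈ A ⊓ centralizer {(d : G)} := by
      refine mem_inf.2 ⟨(Additive.toMul a).2, ?_⟩
      rw [mem_centralizer_singleton_iff]
      calc ((Additive.toMul a : A) : G) * d
          = ((d : G) * (Additive.toMul a : A) * (d : G)⁻¹) * d := by rw [h1]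
        _ = d * (Additive.toMul a : A) := by group
    rw [hd, mem_bot] at h2
    apply Additive.toMul.injective
    apply Subtype.ext
    exact h2
  let s' : normalizer (A : Set G) := ⟨s, hs⟩
  let t' : normalizer (A : Set G) := ⟨t, ht⟩
  have key := abstract_fpf hr (Φ s') (Φ t')
    (by
      show Φ s' * Φ t' = Φ t' * Φ s'
      rw [← map_mul, ← map_mul]
      congr 1
      exact Subtype.ext hst)
    (by rw [← map_pow]; exact hΦ1 _ hsr)
    (by rw [← map_pow]; exact hΦ1 _ htr)
    (hΦfix t' hft)
    (by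
      intro j
      rw [← map_pow, ← map_mul]
      exact hΦfix _ (hfs j))
  intro a ha
  have := key (Additive.ofMul ⟨a, ha⟩)
  have h2 : ((⟨a, ha⟩ : A) ^ r) = 1 := by
    have h3 := congrArg Additive.toMul this
    simpa using h3
  simpa using congrArg Subtype.val h2

end Cfsg.Agent.Lib.Helper59.BG1211Q4
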