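import Cfsg.Agent.Lib.Helper31.BG11a
import Cfsg.Agent.Lib.Helper24.Rank2Main
import Cfsg.Agent.Lib.Helper66.AbelianIndec

set_option autoImplicit false

namespace Cfsg.Agent.Lib.Helper59.BG1211Q6

open Subgroup Cfsg

universe u

variable {G : Type u} [Group G] [Finite G]

/-- (Q6) -/
theorem mem_of_primary {H : Subgroup G} {y : G}
    (h : ∀ z ∈ zpowers y, (∃ (r k : ℕ), r.Prime ∧ orderOf z = r ^ k) → z ∈ H) : y ∈ H := by
  have key : ∀ n : ℕ, ∀ y : G, orderOf y = n →
      (∀ z ∈ zpowers y, (∃ (r k : ℕ), r.Prime ∧ orderOf z = r ^ k) → z ∈ H) → y ∈ H := by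
    intro n
    induction n using Nat.recOnPosPrimePosCoprime with
    | prime_pow p n hp hn =>
      intro y hy h
      exact h y (mem_zpowers y) ⟨p, n, hp, hy⟩
    | zero =>
      intro y hy h
      exact absurd hy (orderOf_pos y).ne'
    | one =>
      intro y hy h
      exact h y (mem_zpowers y) ⟨2, 0, Nat.prime_two, by simpa using hy⟩
    | coprime a b ha hb hab iha ihb =>
      intro y hy h
      have h1 : y ^ b ∈ H := by
        apply iha (y ^ b)
        · rw [orderOf_pow_of_dvd (by omega) (by rw [hy]; exact Dvd.intro_left a rfl), hy]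
          exact Nat.mul_div_cancel _ (by omega)
        · intro z hz
          exact h z ((zpowers_le.2 (pow_mem (mem_zpowers y) b)) hz)
      have h2 : y ^ a ∈ H := by
        apply ihb (y ^ a)
        · rw [orderOf_pow_of_dvd (by omega) (by rw [hy]; exact Dvd.intro b rfl), hy]
          exact Nat.mul_div_cancel_left _ (by omega)
        · intro z hz
          exact h z ((zpowers_le.2 (pow_mem (mem_zpowers y) a)) hz)
      have h3 : (1 : ℤ) = a * Nat.gcdA a b + b * Nat.gcdB a b := by
        have := Nat.gcd_eq_gcd_ab a b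
        rw [hab] at this
        exact_mod_cast this
      have h4 : y = (y ^ a) ^ (Nat.gcdA a b) * (y ^ b) ^ (Nat.gcdB a b) := by
        rw [← zpow_natCast y a, ← zpow_natCast y b, ← zpow_mul, ← zpow_mul, ← zpow_add, ← h3,
          zpow_one]
      rw [h4]
      exact H.mul_mem (H.zpow_mem h2 _) (H.zpow_mem h1 _)
  exact key _ y rfl h

end Cfsg.Agent.Lib.Helper59.BG1211Q6
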