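import Cfsg.Agent.Lib.Helper59.PrimNormal

set_option autoImplicit false

namespace Cfsg.Agent.Lib.Helper59

open MulAction

variable {G : Type*} [Group G]

theorem invUnder_center {A T : Subgroup G} (hTinv : InvUnder A T) :
    InvUnder A (Subgroup.centralizer (T : Set G) ⊓ T) := by
  intro n hn x hx
  refine Subgroup.mem_inf.mpr ⟨?_, hTinv n hn x hx.2⟩
  rw [Subgroup.mem_centralizer_iff]
  intro t ht
  have h1 : n⁻¹ * t * n ∈ T := by
    have := hTinv n⁻¹ (A.inv_mem hn) t ht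
    simpa using this
  have h2 := (Subgroup.mem_centralizer_iff.mp hx.1) _ h1
  calc t * (n * x * n⁻¹) = n * ((n⁻¹ * t * n) * x) * n⁻¹ := by group
    _ = n * (x * (n⁻¹ * t * n)) * n⁻¹ := by rw [h2]
    _ = n * x * n⁻¹ * t := by group

theorem center_trivial_of_isMinInv {A T : Subgroup G} (hT : IsMinInv A T)
    (hnab : ¬ ∀ s ∈ T, ∀ t ∈ T, s * t = t * s) :
    ∀ a ∈ T, (∀ t ∈ T, a * t = t * a) → a = 1 := by
  intro a ha hac
  by_contra ha1
  apply hnab
  have haZ : a ∈ Subgroup.centralizer (T : Set G) ⊓ T := by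
    refine Subgroup.mem_inf.mpr ⟨?_, ha⟩
    rw [Subgroup.mem_centralizer_iff]
    intro t ht
    exact (hac t ht).symm
  have hZ0 : Subgroup.centralizer (T : Set G) ⊓ T ≠ ⊥ := by
    intro h
    rw [h, Subgroup.mem_bot] at haZ
    exact ha1 haZ
  have hZT := hT.2.2.2 _ inf_le_right hZ0 (invUnder_center hT.2.2.1)
  intro s hs t ht
  have : s ∈ Subgroup.centralizer (T : Set G) ⊓ T := by rw [hZT]; exact hs
  exact ((Subgroup.mem_centralizer_iff.mp this.1) t ht).symm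

theorem exists_two_primes [Finite G] {A T : Subgroup G} (hT : IsMinInv A T)
    (hnab : ¬ ∀ s ∈ T, ∀ t ∈ T, s * t = t * s) :
    ∃ q r : ℕ, q.Prime ∧ r.Prime ∧ q ≠ r ∧ (∃ a ∈ T, orderOf a = q) ∧ (∃ b ∈ T, orderOf b = r) := by
  have hnt : Nontrivial T := (Subgroup.nontrivial_iff_ne_bot T).mpr hT.2.1
  have hcard : Nat.card T ≠ 1 := by
    have := Finite.one_lt_card (α := T)
    omega
  obtain ⟨q, hq, hqT⟩ := Nat.exists_prime_and_dvd hcard
  have hqf : Fact q.Prime := ⟨hq⟩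
  obtain ⟨z, hz⟩ := exists_prime_orderOf_dvd_card' (G := T) q hqT
  have hnot : ¬ ∀ t ∈ T, ∃ k : ℕ, orderOf t = q ^ k := fun h =>
    hnab (commute_of_isMinInv_of_pGroup hT q h)
  push Not at hnot
  obtain ⟨t, ht, htk⟩ := hnot
  have : ∃ r : ℕ, r.Prime ∧ r ∣ orderOf t ∧ r ≠ q := by
    by_contra hcon
    push Not at hcon
    exact htk _ (Nat.eq_prime_pow_of_unique_prime_dvd (orderOf_pos t).ne'
      (fun {d} hd hdt => hcon d hd hdt))
  obtain ⟨r, hr, hrt, hrq⟩ := this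
  refine ⟨q, r, hq, hr, hrq.symm, ⟨z, z.2, by rw [Subgroup.orderOf_coe]; exact hz⟩,
    ⟨t ^ (orderOf t / r), T.pow_mem ht _, orderOf_pow_orderOf_div (orderOf_pos t).ne' hrt⟩⟩

/-- A product of a non-trivial element of `T` with a non-trivial element centralizing `T` lies
in no conjugate of `T`. -/
theorem not_mem_cj_of_mul [Finite G] {N T : Subgroup G} (hNn : N.Normal) (hT : IsMinInv N T)
    (hnab : ¬ ∀ s ∈ T, ∀ t ∈ T, s * t = t * s) {a b : G} (ha : a ∈ T) (ha1 : a ≠ 1)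
    (hb : ∀ t ∈ T, b * t = t * b) (hb1 : b ≠ 1) (k : G) : a * b ∉ cj k T := by
  intro h
  rcases cj_eq_or_commute hNn hT k with e | e
  · rw [e] at h
    have hbT : b ∈ T := by
      have := T.mul_mem (T.inv_mem ha) h
      simpa using this
    exact hb1 (center_trivial_of_isMinInv hT hnab b hbT hb)
  · apply ha1
    apply center_trivial_of_isMinInv hT hnab a ha
    intro t ht
    have h1 := e t ht _ h
    have h2 : t * a * b = a * t * b := by
      rw [mul_assoc, h1, mul_assoc, hb t ht, mul_assoc]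
    exact (mul_right_cancel h2).symm

theorem derangement_mul_of_coprime {Ω : Type*} [MulAction G Ω] {x y : G}
    (hx : ∀ ω : Ω, x • ω ≠ ω) (hxy : Commute x y) (hcop : Nat.Coprime (orderOf y) (orderOf x)) :
    ∀ ω : Ω, (x * y) • ω ≠ ω := by
  intro ω hω
  have h1 : (x * y) ^ (orderOf y) • ω = ω := by
    have : (x * y) ∈ stabilizer G ω := hω
    exact (stabilizer G ω).pow_mem this _
  have h2 : (x * y) ^ (orderOf y) = x ^ (orderOf y) := by
    rw [hxy.mul_pow, pow_orderOf_eq_one, mul_one]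
  rw [h2] at h1
  obtain ⟨m, hm⟩ := exists_pow_eq_self_of_coprime hcop
  have h3 : (x ^ (orderOf y)) ^ m • ω = ω := by
    have : x ^ (orderOf y) ∈ stabilizer G ω := h1
    exact (stabilizer G ω).pow_mem this m
  rw [hm] at h3
  exact hx ω h3

theorem exists_moves {Ω : Type*} [MulAction G Ω] [FaithfulSMul G Ω] {N T : Subgroup G}
    (hT : IsMinInv N T) (hNtr : IsPretransitive N Ω) (α : Ω) : ∃ t ∈ T, t • α ≠ α := by
  by_contra hcon
  push Not at hcon
  apply hT.2.1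
  rw [Subgroup.eq_bot_iff_forall]
  intro x hx
  apply FaithfulSMul.eq_of_smul_eq_smul (α := Ω)
  intro ω
  obtain ⟨n, rfl⟩ := hNtr.exists_smul_eq α ω
  have h1 : (n : G)⁻¹ * x * (n : G) ∈ T := by
    have := hT.2.2.1 (n : G)⁻¹ (N.inv_mem n.2) x hx
    simpa using this
  have h2 := hcon _ h1
  show x • (n : G) • α = (1 : G) • (n : G) • α
  rw [one_smul]
  rw [mul_smul, mul_smul, inv_smul_eq_iff] at h2
  exact h2

/-- If `T` is not semiregular, there is `x ∈ T` such that `x c` is a derangement for every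
`c ∈ C_N(T)`. -/
theorem exists_strong_derangement [Finite G] {Ω : Type*} [MulAction G Ω] [FaithfulSMul G Ω]
    [Finite Ω] {N T : Subgroup G} (hN : IsMinInv ⊤ N) (hT : IsMinInv N T)
    (hNtr : IsPretransitive N Ω) (t₀ : G) (ht₀ : t₀ ∈ T) (ht₀1 : t₀ ≠ 1) (α : Ω)
    (hfix : t₀ • α = α) :
    ∃ x ∈ T, ∀ c ∈ N, (∀ s ∈ T, c * s = s * c) → ∀ ω : Ω, (x * c) • ω ≠ ω := by
  classical
  let R : Subgroup G :=
    { carrier := {t | t ∈ T ∧ ∃ c ∈ N, (∀ s ∈ T, c * s = s * c) ∧ (t * c) • α = α}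
      one_mem' := ⟨T.one_mem, 1, N.one_mem, fun s _ => by simp, by simp⟩
      mul_mem' := by
        rintro t t' ⟨ht, c, hc, hcs, hα⟩ ⟨ht', c', hc', hcs', hα'⟩
        refine ⟨T.mul_mem ht ht', c * c', N.mul_mem hc hc', fun s hs => ?_, ?_⟩
        · rw [mul_assoc, hcs' s hs, ← mul_assoc, hcs s hs, mul_assoc]
        · have e : t * t' * (c * c') = (t * c) * (t' * c') := by
            calc t * t' * (c * c') = t * (t' * c) * c' := by group
              _ = t * (c * t') * c' := by rw [hcs t' ht']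
              _ = (t * c) * (t' * c') := by group
          rw [e, mul_smul, hα', hα]
      inv_mem' := by
        rintro t ⟨ht, c, hc, hcs, hα⟩
        refine ⟨T.inv_mem ht, c⁻¹, N.inv_mem hc, fun s hs => ?_, ?_⟩
        · have := hcs s hs
          calc c⁻¹ * s = c⁻¹ * (s * c) * c⁻¹ := by group
            _ = c⁻¹ * (c * s) * c⁻¹ := by rw [this]
            _ = s * c⁻¹ := by group
        · have e : t⁻¹ * c⁻¹ = (t * c)⁻¹ := by
            rw [← hcs t ht]; group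
          rw [e, inv_smul_eq_iff, hα] }
  have hRT : R ≤ T := fun t ht => ht.1
  have hRne : R ≠ T := by
    intro hRT'
    -- T ⊓ stabilizer is N-invariant
    have hinv : InvUnder N (T ⊓ stabilizer G α) := by
      intro n hn u hu
      obtain ⟨c₁, t₁, ht₁, hc₁N, hc₁, rfl⟩ := exists_centralizing_factor hN hT n hn
      have ht₁R : t₁ ∈ R := by rw [hRT']; exact ht₁
      obtain ⟨-, c, hcN, hc, hcα⟩ := ht₁R
      have hmemT : t₁ * u * t₁⁻¹ ∈ T := T.mul_mem (T.mul_mem ht₁ hu.1) (T.inv_mem ht₁)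
      have e1 : c₁ * t₁ * u * (c₁ * t₁)⁻¹ = t₁ * u * t₁⁻¹ := by
        calc c₁ * t₁ * u * (c₁ * t₁)⁻¹ = c₁ * (t₁ * u * t₁⁻¹) * c₁⁻¹ := by group
          _ = (t₁ * u * t₁⁻¹) * c₁ * c₁⁻¹ := by rw [hc₁ _ hmemT]
          _ = t₁ * u * t₁⁻¹ := by group
      have e2 : t₁ * u * t₁⁻¹ = (t₁ * c) * u * (t₁ * c)⁻¹ := by
        calc t₁ * u * t₁⁻¹ = t₁ * (u * c) * c⁻¹ * t₁⁻¹ := by group
          _ = t₁ * (c * u) * c⁻¹ * t₁⁻¹ := by rw [hc u hu.1]
          _ = (t₁ * c) * u * (t₁ * c)⁻¹ := by group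
      rw [e1]
      refine Subgroup.mem_inf.mpr ⟨hmemT, ?_⟩
      rw [e2]
      have h1 : t₁ * c ∈ stabilizer G α := hcα
      exact (stabilizer G α).mul_mem ((stabilizer G α).mul_mem h1 hu.2)
        ((stabilizer G α).inv_mem h1)
    have hne : T ⊓ stabilizer G α ≠ ⊥ := by
      intro h
      have : t₀ ∈ T ⊓ stabilizer G α := Subgroup.mem_inf.mpr ⟨ht₀, hfix⟩
      rw [h, Subgroup.mem_bot] at this
      exact ht₀1 this
    have heq := hT.2.2.2 _ inf_le_left hne hinv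
    obtain ⟨t, ht, htα⟩ := exists_moves hT hNtr α
    have : t ∈ T ⊓ stabilizer G α := by rw [heq]; exact ht
    exact htα this.2
  -- a derangement of T on T ⧸ R
  have hcard : 2 ≤ Nat.card (T ⧸ R.subgroupOf T) := by
    have h1 : (R.subgroupOf T).index ≠ 1 := by
      intro h
      rw [Subgroup.index_eq_one, Subgroup.subgroupOf_eq_top] at h
      exact hRne (le_antisymm hRT h)
    have h0 : (R.subgroupOf T).index ≠ 0 := Subgroup.index_ne_zero_of_finite
    have : Nat.card (T ⧸ R.subgroupOf T) = (R.subgroupOf T).index := rfl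
    omega
  obtain ⟨x, hx⟩ := exists_derangement (K := T) (X := T ⧸ R.subgroupOf T) inferInstance hcard
  have hx' : ∀ t ∈ T, t⁻¹ * (x : G) * t ∉ R := by
    intro t ht hmem
    apply hx ((⟨t, ht⟩ : T) : T ⧸ R.subgroupOf T)
    rw [MulAction.Quotient.smul_coe, QuotientGroup.eq, Subgroup.mem_subgroupOf]
    have := R.inv_mem hmem
    have e : (t⁻¹ * (x : G) * t)⁻¹ = ((x • (⟨t, ht⟩ : T))⁻¹ * (⟨t, ht⟩ : T) : T) := by
      simp only [smul_eq_mul, mul_inv_rev, Subgroup.coe_mul, InvMemClass.coe_inv]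
      group
    rwa [e] at this
  refine ⟨x, x.2, fun c hcN hc ω hω => ?_⟩
  obtain ⟨n, rfl⟩ := hNtr.exists_smul_eq α ω
  obtain ⟨c₁, t₁, ht₁, hc₁N, hc₁, hn⟩ := exists_centralizing_factor hN hT n n.2
  apply hx' t₁ ht₁
  refine ⟨T.mul_mem (T.mul_mem (T.inv_mem ht₁) x.2) ht₁, c₁⁻¹ * c * c₁,
    N.mul_mem (N.mul_mem (N.inv_mem hc₁N) hcN) hc₁N, fun s hs => ?_, ?_⟩
  · calc c₁⁻¹ * c * c₁ * s = c₁⁻¹ * c * (c₁ * s) := by group
      _ = c₁⁻¹ * (c * s) * c₁ := by rw [hc₁ s hs]; group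
      _ = c₁⁻¹ * (s * c₁) * (c₁⁻¹ * c * c₁) := by rw [hc s hs]; group
      _ = c₁⁻¹ * (c₁ * s) * (c₁⁻¹ * c * c₁) := by rw [hc₁ s hs]
      _ = s * (c₁⁻¹ * c * c₁) := by group
  · have hω' : ((x : G) * c) • ((c₁ * t₁) • α) = (c₁ * t₁) • α := by
      rw [← hn]; exact hω
    have hcx : Commute c₁ (x : G) := hc₁ x x.2
    have hct : Commute c₁ t₁ := hc₁ t₁ ht₁
    have hct' : Commute c t₁ := hc t₁ ht₁
    have h1 : c * c₁ * t₁ = t₁ * (c * c₁) := (hct'.mul_left hct).eq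
    have h2 : c₁⁻¹ * ((x : G) * t₁) = ((x : G) * t₁) * c₁⁻¹ := (Commute.inv_left (hcx.mul_right hct)).eq
    have e : t₁⁻¹ * (x : G) * t₁ * (c₁⁻¹ * c * c₁) = (c₁ * t₁)⁻¹ * ((x : G) * c) * (c₁ * t₁) := by
      symm
      calc (c₁ * t₁)⁻¹ * ((x : G) * c) * (c₁ * t₁)
          = t₁⁻¹ * c₁⁻¹ * (x : G) * (c * c₁ * t₁) := by group
        _ = t₁⁻¹ * c₁⁻¹ * (x : G) * (t₁ * (c * c₁)) := by rw [h1]
        _ = t₁⁻¹ * (c₁⁻¹ * ((x : G) * t₁)) * (c * c₁) := by group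
        _ = t₁⁻¹ * (((x : G) * t₁) * c₁⁻¹) * (c * c₁) := by rw [h2]
        _ = t₁⁻¹ * (x : G) * t₁ * (c₁⁻¹ * c * c₁) := by group
    rw [e, mul_smul, mul_smul, hω', inv_smul_smul]

end Cfsg.Agent.Lib.Helper59
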