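import Mathlib

set_option autoImplicit false

/-!
# Schur's method for permutation groups with a regular abelian subgroup

`ι : A →* G` embeds a commutative group `A` in `G` so that `a ↦ ι a • ω` is a bijection `A → Ω`.
A function on `A` is `SInv` when it is constant on the orbits of the stabilizer of `ω`
(transported to `A`).  Such functions are closed under convolution (Schur).
-/

namespace Cfsg.Agent.Lib.Helper59.Schur

variable {G Ω A : Type*} [Group G] [MulAction G Ω] [CommGroup A]

/-- `f` is constant on the orbits of the stabilizer of `ω`, transported to `A`. -/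
def SInv (ι : A →* G) (ω : Ω) {R : Type*} (f : A → R) : Prop :=
  ∀ h : G, h • ω = ω → ∀ x y : A, h • ι x • ω = ι y • ω → f x = f y

variable {ι : A →* G} {ω : Ω}

/-- the permutation of `A` induced by an element of `G`. -/
noncomputable def ind (hb : Function.Bijective (fun a : A => ι a • ω)) (h : G) : A ≃ A :=
  ((Equiv.ofBijective _ hb).trans (MulAction.toPerm h)).trans (Equiv.ofBijective _ hb).symm

theorem ind_spec (hb : Function.Bijective (fun a : A => ι a • ω)) (h : G) (a : A) :
    ι (ind hb h a) • ω = h • ι a • ω := by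
  exact (Equiv.ofBijective _ hb).apply_symm_apply (h • ι a • ω)

theorem SInv.comp {R S : Type*} {f : A → R} (hf : SInv ι ω f) (φ : R → S) :
    SInv ι ω (fun x => φ (f x)) := fun h hh x y hxy => by
  show φ (f x) = φ (f y)
  rw [hf h hh x y hxy]

theorem SInv.comp₂ {R S U : Type*} {f : A → R} {g : A → S} (hf : SInv ι ω f) (hg : SInv ι ω g)
    (φ : R → S → U) : SInv ι ω (fun x => φ (f x) (g x)) := fun h hh x y hxy => by
  show φ (f x) (g x) = φ (f y) (g y)
  rw [hf h hh x y hxy, hg h hh x y hxy]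

theorem sinv_eq_one (hb : Function.Bijective (fun a : A => ι a • ω)) :
    SInv ι ω (fun x : A => x = 1) := by
  intro h hh x y hxy
  apply propext
  constructor
  · intro hx
    subst hx
    apply hb.1
    simp only [map_one, one_smul] at hxy ⊢
    rw [← hxy, hh]
  · intro hy
    subst hy
    apply hb.1
    simp only [map_one, one_smul] at hxy ⊢
    have : h⁻¹ • (h • ι x • ω) = h⁻¹ • ω := by rw [hxy]
    rw [inv_smul_smul] at this
    rw [this, inv_smul_eq_iff, hh]

/-- Schur: invariant functions are closed under convolution. -/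
theorem SInv.conv [Fintype A] {R : Type*} [Semiring R]
    (hb : Function.Bijective (fun a : A => ι a • ω)) {f g : A → R}
    (hf : SInv ι ω f) (hg : SInv ι ω g) :
    SInv ι ω (fun x => ∑ a, f a * g (a⁻¹ * x)) := by
  intro h hh x y hxy
  refine Fintype.sum_equiv (ind hb h) _ _ (fun a => ?_)
  have h1 : f a = f (ind hb h a) := hf h hh a _ (ind_spec hb h a).symm
  have h2 : g (a⁻¹ * x) = g ((ind hb h a)⁻¹ * y) := by
    refine hg ((ι (ind hb h a))⁻¹ * h * ι a) ?_ _ _ ?_
    · rw [mul_smul, mul_smul, ← ind_spec hb h a, inv_smul_smul]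
    · rw [map_mul, map_mul, map_inv, map_inv, mul_smul, mul_smul, mul_smul, mul_smul,
        smul_inv_smul, hxy]
  rw [h1, h2]

theorem SInv.mul [Fintype A] {R : Type*} [Semiring R]
    (hb : Function.Bijective (fun a : A => ι a • ω)) {F F' : MonoidAlgebra R A}
    (hf : SInv ι ω (fun x => F.coeff x)) (hg : SInv ι ω (fun x => F'.coeff x)) :
    SInv ι ω (fun x => (F * F').coeff x) := by
  have : (fun x => (F * F').coeff x) = fun x => ∑ a, F.coeff a * F'.coeff (a⁻¹ * x) := by
    funext x
    rw [MonoidAlgebra.coeff_mul_apply_left, Finsupp.sum_fintype]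
    intro i; simp
  rw [this]
  exact SInv.conv hb hf hg

theorem SInv.pow [Fintype A] {R : Type*} [Semiring R]
    (hb : Function.Bijective (fun a : A => ι a • ω)) {F : MonoidAlgebra R A}
    (hf : SInv ι ω (fun x => F.coeff x)) (k : ℕ) :
    SInv ι ω (fun x => (F ^ (k + 1)).coeff x) := by
  induction k with
  | zero => simpa using hf
  | succ k ih =>
    rw [pow_succ]
    exact SInv.mul hb ih hf

/-- Frobenius step: the number of `p`-th roots in an invariant set, modulo `p`, is invariant. -/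
theorem sinv_card_pow [Fintype A] [DecidableEq A]
    (hb : Function.Bijective (fun a : A => ι a • ω)) (p : ℕ) [hp : Fact p.Prime] (T : Finset A)
    (hT : SInv ι ω (fun x => x ∈ T)) :
    SInv ι ω (fun x => (((T.filter (fun a => a ^ p = x)).card : ℕ) : ZMod p)) := by
  have : CharP (MonoidAlgebra (ZMod p) A) p := by
    apply charP_of_injective_algebraMap (R := ZMod p)
    exact FaithfulSMul.algebraMap_injective _ _
  set τ : MonoidAlgebra (ZMod p) A := ∑ a ∈ T, MonoidAlgebra.single a 1 with hτ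
  have hτc : ∀ x, τ.coeff x = if x ∈ T then 1 else 0 := by
    intro x
    rw [hτ, MonoidAlgebra.coeff_sum, Finsupp.finsetSum_apply]
    simp [MonoidAlgebra.coeff_single, Finsupp.single_apply]
  have h1 : SInv ι ω (fun x => τ.coeff x) := by
    intro h hh x y hxy
    show τ.coeff x = τ.coeff y
    have hxy' : (x ∈ T) = (y ∈ T) := hT h hh x y hxy
    rw [hτc, hτc]
    simp only [hxy']
  have h2 := SInv.pow hb h1 (p - 1)
  have hp1 : p - 1 + 1 = p := Nat.sub_add_cancel hp.out.one_le
  rw [hp1] at h2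
  have h3 : τ ^ p = ∑ a ∈ T, MonoidAlgebra.single (a ^ p) 1 := by
    rw [hτ, sum_pow_char]
    simp [MonoidAlgebra.single_pow]
  have h4 : (fun x => (τ ^ p).coeff x) =
      fun x => (((T.filter (fun a => a ^ p = x)).card : ℕ) : ZMod p) := by
    funext x
    rw [h3, MonoidAlgebra.coeff_sum, Finsupp.finsetSum_apply]
    simp [MonoidAlgebra.coeff_single, Finsupp.single_apply]
  rw [← h4]
  exact h2

theorem sinv_of_imp {P : A → Prop}
    (H : ∀ h : G, h • ω = ω → ∀ x y : A, h • ι x • ω = ι y • ω → P x → P y) :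
    SInv ι ω (fun x => P x) := by
  intro h hh x y hxy
  apply propext
  refine ⟨H h hh x y hxy, H h⁻¹ (by rw [inv_smul_eq_iff, hh]) y x ?_⟩
  rw [← hxy, inv_smul_smul]

theorem SInv.imp {P : A → Prop} (hP : SInv ι ω (fun x => P x)) {h : G} (hh : h • ω = ω) {x y : A}
    (hxy : h • ι x • ω = ι y • ω) (hx : P x) : P y := by
  have : P x = P y := hP h hh x y hxy
  rwa [← this]

/-- Invariant subgroups of `A` are trivial when the point stabilizer is maximal. -/
theorem subgroup_eq_bot_or_top (hb : Function.Bijective (fun a : A => ι a • ω))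
    (hmax : IsCoatom (MulAction.stabilizer G ω)) (M : Subgroup A)
    (hM : SInv ι ω (fun x => x ∈ M)) : M = ⊥ ∨ M = ⊤ := by
  let L : Subgroup G :=
    { carrier := {g | ∃ m ∈ M, g • ω = ι m • ω}
      one_mem' := ⟨1, M.one_mem, by simp⟩
      mul_mem' := by
        rintro g₁ g₂ ⟨m₁, hm₁, h₁⟩ ⟨m₂, hm₂, h₂⟩
        have hh : ((ι m₁)⁻¹ * g₁) • ω = ω := by rw [mul_smul, h₁, inv_smul_smul]
        refine ⟨m₁ * ind hb ((ι m₁)⁻¹ * g₁) m₂, M.mul_mem hm₁ ?_, ?_⟩
        · exact hM.imp hh (ind_spec hb _ m₂).symm hm₂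
        · rw [map_mul, mul_smul, mul_smul, ind_spec, h₂, mul_smul, smul_inv_smul]
      inv_mem' := by
        rintro g ⟨m, hm, h₁⟩
        have hh : (g⁻¹ * ι m) • ω = ω := by rw [mul_smul, ← h₁, inv_smul_smul]
        refine ⟨ind hb (g⁻¹ * ι m) m⁻¹, ?_, ?_⟩
        · exact hM.imp hh (ind_spec hb _ m⁻¹).symm (M.inv_mem hm)
        · rw [ind_spec, map_inv, mul_smul, smul_inv_smul] }
  have hle : MulAction.stabilizer G ω ≤ L := by
    intro g hg
    exact ⟨1, M.one_mem, by simpa using hg⟩
  rcases eq_or_lt_of_le hle with h | h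
  · left
    rw [eq_bot_iff]
    intro m hm
    have : ι m ∈ L := ⟨m, hm, rfl⟩
    rw [← h, MulAction.mem_stabilizer_iff] at this
    rw [Subgroup.mem_bot]
    apply hb.1
    simpa using this
  · right
    have hL := hmax.2 L h
    rw [eq_top_iff]
    intro a _
    have : ι a ∈ L := by rw [hL]; trivial
    obtain ⟨m, hm, h₁⟩ := this
    have : a = m := hb.1 h₁
    rwa [this]

/-- The subgroup generated by an invariant set is invariant. -/
theorem sinv_closure (hb : Function.Bijective (fun a : A => ι a • ω)) (D : Set A)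
    (hD : SInv ι ω (fun x => x ∈ D)) : SInv ι ω (fun x => x ∈ Subgroup.closure D) := by
  apply sinv_of_imp
  intro h hh x y hxy hx
  induction hx using Subgroup.closure_induction_left generalizing h y with
  | one =>
    have : y = 1 := (sinv_eq_one hb).imp (P := fun x => x = 1) hh hxy rfl
    rw [this]; exact Subgroup.one_mem _
  | mul_left d hd x' _ ih =>
    have hd' : ind hb h d ∈ D := hD.imp hh (ind_spec hb h d).symm hd
    have hh₁ : ((ι (ind hb h d))⁻¹ * h * ι d) • ω = ω := by
      rw [mul_smul, mul_smul, ← ind_spec hb h d, inv_smul_smul]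
    have := ih ((ι (ind hb h d))⁻¹ * h * ι d) hh₁ ((ind hb h d)⁻¹ * y) (by
      rw [map_mul, map_inv, mul_smul, mul_smul, mul_smul, ← hxy, map_mul, mul_smul])
    have h2 := (Subgroup.closure D).mul_mem (Subgroup.subset_closure hd') this
    rwa [mul_inv_cancel_left] at h2
  | inv_mul_cancel d hd x' _ ih =>
    -- `e = ind h d⁻¹` has `e⁻¹ ∈ D`
    set e := ind hb h d⁻¹ with he
    have hes : ι e • ω = h • (ι d)⁻¹ • ω := by
      rw [← map_inv ι d]
      exact ind_spec hb h d⁻¹
    have hk : ((ι e)⁻¹ * h * (ι d)⁻¹) • ω = ω := by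
      rw [mul_smul, mul_smul, ← hes, inv_smul_smul]
    have he' : e⁻¹ ∈ D := by
      refine hD.imp hk ?_ hd
      rw [mul_smul, mul_smul, inv_smul_smul, hh, map_inv]
    have := ih ((ι e)⁻¹ * h * (ι d)⁻¹) hk (e⁻¹ * y) (by
      rw [map_mul, map_inv, mul_smul, mul_smul, mul_smul, ← hxy, map_mul, mul_smul, map_inv])
    have h2 := (Subgroup.closure D).mul_mem
      ((Subgroup.closure D).inv_mem (Subgroup.subset_closure he')) this
    rwa [inv_inv, mul_inv_cancel_left] at h2

/-- the translation stabilizer of a subset of `A`. -/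
def St (T : Set A) : Subgroup A where
  carrier := {x | ∀ t, x * t ∈ T ↔ t ∈ T}
  one_mem' := fun t => by simp
  mul_mem' := by
    intro a b ha hb t
    rw [mul_assoc, ha, hb]
  inv_mem' := by
    intro a ha t
    rw [← ha (a⁻¹ * t), mul_inv_cancel_left]

theorem mem_St {T : Set A} {x : A} : x ∈ St T ↔ ∀ t, x * t ∈ T ↔ t ∈ T := Iff.rfl

theorem sinv_St (hb : Function.Bijective (fun a : A => ι a • ω)) (T : Set A)
    (hT : SInv ι ω (fun x => x ∈ T)) : SInv ι ω (fun x => x ∈ St T) := by
  apply sinv_of_imp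
  intro h hh x y hxy hx t
  -- `k = (ι y)⁻¹ h ι x` fixes `ω`
  have hk : ((ι x)⁻¹ * h⁻¹ * ι y) • ω = ω := by
    rw [mul_smul, mul_smul, ← hxy, inv_smul_smul, inv_smul_smul]
  set s := ind hb ((ι x)⁻¹ * h⁻¹ * ι y) t with hs
  have hss : ι s • ω = ((ι x)⁻¹ * h⁻¹ * ι y) • ι t • ω := ind_spec hb _ t
  have h1 : (t ∈ T) = (s ∈ T) := hT _ hk t s hss.symm
  have h2 : (x * s ∈ T) = (y * t ∈ T) := by
    refine hT h hh _ _ ?_
    rw [map_mul, mul_smul, hss, mul_smul, mul_smul, smul_inv_smul, smul_inv_smul, map_mul,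
      mul_smul]
  rw [← h2, h1]
  exact hx s

/-- a finite set closed under multiplication by an element of order `p` has size divisible
by `p`. -/
theorem dvd_card_of_mul_closed (p : ℕ) [Fact p.Prime] (S : Finset A) (u : A)
    (hu : u ^ p = 1) (hu1 : u ≠ 1) (hS : ∀ a ∈ S, a * u ∈ S) : p ∣ S.card := by
  classical
  let f : Function.End S := fun a => ⟨a.1 * u, hS a.1 a.2⟩
  have hit : ∀ (k : ℕ) (a : S), ((f^[k]) a).1 = a.1 * u ^ k := by
    intro k
    induction k with
    | zero => intro a; rw [Function.iterate_zero, pow_zero, mul_one]; rfl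
    | succ k ih =>
      intro a
      rw [Function.iterate_succ_apply', pow_succ, ← mul_assoc, ← ih a]
  have hf : f ^ p ^ 1 = 1 := by
    rw [pow_one]
    have h1 : (f ^ p : S → S) = f^[p] :=
      hom_coe_pow (fun g : Function.End S ↦ g) rfl (fun g h ↦ rfl) f p
    funext a
    apply Subtype.ext
    have h2 : ((f ^ p : Function.End S) a) = (f^[p]) a := congrFun h1 a
    rw [h2, hit, hu, mul_one]
    rfl
  have h := Equiv.Perm.card_fixedPoints_modEq (p := p) (n := 1) hf
  have h0 : Fintype.card (Function.fixedPoints f) = 0 := by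
    rw [Fintype.card_eq_zero_iff]
    refine ⟨fun a => ?_⟩
    have h3 : f a.1 = a.1 := a.2
    have h4 : (a.1.1 * u : A) = a.1.1 := congrArg Subtype.val h3
    exact hu1 (by simpa using h4)
  rw [h0, Fintype.card_coe] at h
  exact (Nat.modEq_zero_iff_dvd).mp h

section main

variable [Fintype A] [DecidableEq A]

theorem ruleP (hb : Function.Bijective (fun a : A => ι a • ω))
    (hmax : IsCoatom (MulAction.stabilizer G ω)) (p : ℕ) [hp : Fact p.Prime]
    (hpd : p ∣ Fintype.card A)
    (hle : (Finset.univ.filter (fun a : A => a ^ p = 1)).card ≤ p)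
    (T : Finset A) (hT : SInv ι ω (fun x => x ∈ T)) {x u : A} (hx : x ∈ T) (hxp : x ^ p ≠ 1)
    (hu : u ^ p = 1) : x * u ∈ T := by
  set c : A → ℕ := fun g => (T.filter (fun a => a ^ p = g)).card with hc
  set D : Set A := {g | ((c g : ℕ) : ZMod p) ≠ 0} with hD
  have hDinv : SInv ι ω (fun x => x ∈ D) := (sinv_card_pow hb p T hT).comp (fun z => z ≠ 0)
  set K : Subgroup A := (powMonoidHom p : A →* A).range with hK
  have hDK : Subgroup.closure D ≤ K := by
    rw [Subgroup.closure_le]
    intro g hg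
    have h1 : c g ≠ 0 := by
      intro h0
      apply hg
      rw [h0]; simp
    have h2 : (T.filter (fun a => a ^ p = g)).Nonempty := Finset.card_ne_zero.mp h1
    obtain ⟨a, ha⟩ := h2
    rw [Finset.mem_filter] at ha
    exact ⟨a, ha.2⟩
  have hKtop : K ≠ ⊤ := by
    intro h
    obtain ⟨z, hz⟩ := exists_prime_orderOf_dvd_card p hpd
    have hsurj : Function.Surjective (powMonoidHom p : A →* A) :=
      MonoidHom.range_eq_top.mp h
    have hinj := Finite.injective_iff_surjective.mpr hsurj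
    have : z = 1 := by
      apply hinj
      simp only [powMonoidHom_apply, one_pow]
      rw [← hz]; exact pow_orderOf_eq_one z
    rw [this, orderOf_one] at hz
    exact hp.out.one_lt.ne hz
  have hbot : Subgroup.closure D = ⊥ := by
    rcases subgroup_eq_bot_or_top hb hmax _ (sinv_closure hb D hDinv) with h | h
    · exact h
    · exact absurd (top_le_iff.mp (h ▸ hDK)) hKtop
  have hxD : x ^ p ∉ D := by
    intro h
    have : x ^ p ∈ Subgroup.closure D := Subgroup.subset_closure h
    rw [hbot, Subgroup.mem_bot] at this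
    exact hxp this
  have hdvd : p ∣ c (x ^ p) := by
    have : ((c (x ^ p) : ℕ) : ZMod p) = 0 := by
      by_contra h
      exact hxD h
    exact (ZMod.natCast_eq_zero_iff _ _).mp this
  set F : Finset A := Finset.univ.filter (fun a : A => a ^ p = x ^ p) with hF
  have hFle : F.card ≤ p := by
    refine le_trans ?_ hle
    apply Finset.card_le_card_of_injOn (fun a => x⁻¹ * a)
    · intro a ha
      have ha' : a ^ p = x ^ p := by simpa [hF] using ha
      simp only [Finset.coe_filter, Finset.mem_univ, true_and, Set.mem_ofPred_eq]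
      rw [mul_pow, ha', inv_pow, inv_mul_cancel]
    · intro a _ b _ hab
      exact mul_left_cancel hab
  have hsub : T.filter (fun a => a ^ p = x ^ p) ⊆ F := by
    intro a ha
    rw [Finset.mem_filter] at ha
    simp [hF, ha.2]
  have hpos : 0 < c (x ^ p) := Finset.card_pos.mpr ⟨x, by simp [hx]⟩
  have heq : T.filter (fun a => a ^ p = x ^ p) = F :=
    Finset.eq_of_subset_of_card_le hsub (le_trans hFle (Nat.le_of_dvd hpos hdvd))
  have hxu : x * u ∈ F := by
    simp [hF, mul_pow, hu]
  rw [← heq, Finset.mem_filter] at hxu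
  exact hxu.1

theorem exists_mem_pow_eq_one (hb : Function.Bijective (fun a : A => ι a • ω))
    (hmax : IsCoatom (MulAction.stabilizer G ω)) (p : ℕ) [hp : Fact p.Prime]
    (hpd : p ∣ Fintype.card A)
    (hle : (Finset.univ.filter (fun a : A => a ^ p = 1)).card ≤ p)
    (T : Finset A) (hT : SInv ι ω (fun x => x ∈ T)) (hne : T.Nonempty) (h1 : (1 : A) ∉ T) :
    ∃ u ∈ T, u ^ p = 1 := by
  by_contra hcon
  push Not at hcon
  obtain ⟨z, hz⟩ := exists_prime_orderOf_dvd_card p hpd
  have hzp : z ^ p = 1 := by rw [← hz]; exact pow_orderOf_eq_one z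
  have hz1 : z ≠ 1 := by
    intro h
    rw [h, orderOf_one] at hz
    exact hp.out.one_lt.ne hz
  have hT' : SInv ι ω (fun x => x ∈ (T : Set A)) := hT
  have hzS : z ∈ St (T : Set A) := by
    intro t
    constructor
    · intro h
      have h' : z * t ∈ T := h
      have := ruleP hb hmax p hpd hle T hT h' (hcon _ h') (u := z⁻¹) (by rw [inv_pow, hzp, inv_one])
      rw [mul_comm z t, mul_inv_cancel_right] at this
      exact this
    · intro h
      have h' : t ∈ T := h
      have := ruleP hb hmax p hpd hle T hT h' (hcon _ h') hzp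
      rw [mul_comm] at this
      exact this
  rcases subgroup_eq_bot_or_top hb hmax _ (sinv_St hb _ hT') with h | h
  · rw [h, Subgroup.mem_bot] at hzS
    exact hz1 hzS
  · obtain ⟨t, ht⟩ := hne
    have : t⁻¹ ∈ St (T : Set A) := by rw [h]; trivial
    have h2 := (this t).mpr ht
    rw [inv_mul_cancel] at h2
    exact h1 h2

omit [Fintype A] [DecidableEq A] in
theorem eq_one_of_pow_pow {p q : ℕ} (hp : p.Prime) (hq : q.Prime) (hpq : p ≠ q) {a : A}
    (h1 : a ^ p = 1) (h2 : a ^ q = 1) : a = 1 := by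
  have := pow_gcd_eq_one.mpr ⟨h1, h2⟩
  rwa [(Nat.coprime_primes hp hq).mpr hpq, pow_one] at this

/-- Two distinct primes divide `|A|`: every invariant nonempty set avoiding `1` contains every
element of order `p`. -/
theorem mem_of_two_primes (hb : Function.Bijective (fun a : A => ι a • ω))
    (hmax : IsCoatom (MulAction.stabilizer G ω)) (p q : ℕ) [hp : Fact p.Prime] [hq : Fact q.Prime]
    (hpq : p ≠ q) (hpd : p ∣ Fintype.card A) (hqd : q ∣ Fintype.card A)
    (hlep : (Finset.univ.filter (fun a : A => a ^ p = 1)).card ≤ p)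
    (hleq : (Finset.univ.filter (fun a : A => a ^ q = 1)).card ≤ q)
    (T : Finset A) (hT : SInv ι ω (fun x => x ∈ T)) (hne : T.Nonempty) (h1 : (1 : A) ∉ T)
    {u₀ : A} (hu₀ : u₀ ^ p = 1) (hu₀1 : u₀ ≠ 1) : u₀ ∈ T := by
  obtain ⟨u, huT, hup⟩ := exists_mem_pow_eq_one hb hmax p hpd hlep T hT hne h1
  have hu1 : u ≠ 1 := fun h => h1 (h ▸ huT)
  have huq : u ^ q ≠ 1 := fun h => hu1 (eq_one_of_pow_pow hp.out hq.out hpq hup h)
  obtain ⟨v, hv⟩ := exists_prime_orderOf_dvd_card q hqd
  have hvq : v ^ q = 1 := by rw [← hv]; exact pow_orderOf_eq_one v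
  have hv1 : v ≠ 1 := by
    intro h
    rw [h, orderOf_one] at hv
    exact hq.out.one_lt.ne hv
  have hvp : v ^ p ≠ 1 := fun h => hv1 (eq_one_of_pow_pow hp.out hq.out hpq h hvq)
  have e1 : u * v ∈ T := ruleP hb hmax q hqd hleq T hT huT huq hvq
  have e2 : u * v * (u⁻¹ * u₀) ∈ T := by
    refine ruleP hb hmax p hpd hlep T hT e1 ?_ ?_
    · rw [mul_pow, hup, one_mul]; exact hvp
    · rw [mul_pow, inv_pow, hup, hu₀, inv_one, one_mul]
  have e2' : v * u₀ ∈ T := by
    have : u * v * (u⁻¹ * u₀) = v * u₀ := by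
      rw [mul_comm u v, mul_assoc, mul_inv_cancel_left]
    rwa [this] at e2
  have e3 : v * u₀ * v⁻¹ ∈ T := by
    refine ruleP hb hmax q hqd hleq T hT e2' ?_ ?_
    · rw [mul_pow, hvq, one_mul]
      exact fun h => hu₀1 (eq_one_of_pow_pow hp.out hq.out hpq hu₀ h)
    · rw [inv_pow, hvq, inv_one]
  rwa [mul_comm v u₀, mul_inv_cancel_right] at e3

theorem card_filter_lt (p : ℕ) (hle : (Finset.univ.filter (fun a : A => a ^ p = 1)).card ≤ p)
    (T : Finset A) (h1 : (1 : A) ∉ T) : (T.filter (fun a => a ^ p = 1)).card < p := by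
  have hsub : T.filter (fun a => a ^ p = 1) ⊆
      (Finset.univ.filter (fun a : A => a ^ p = 1)).erase 1 := by
    intro a ha
    rw [Finset.mem_filter] at ha
    rw [Finset.mem_erase, Finset.mem_filter]
    exact ⟨fun h => h1 (h ▸ ha.1), Finset.mem_univ _, ha.2⟩
  have h2 : (1 : A) ∈ Finset.univ.filter (fun a : A => a ^ p = 1) := by simp
  have h3 := Finset.card_le_card hsub
  rw [Finset.card_erase_of_mem h2] at h3
  have h4 : 0 < (Finset.univ.filter (fun a : A => a ^ p = 1)).card := Finset.card_pos.mpr ⟨1, h2⟩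
  omega

/-- Prime power case: two disjoint invariant sets, one of them an orbit, cannot exist. -/
theorem false_of_disjoint (hb : Function.Bijective (fun a : A => ι a • ω))
    (hmax : IsCoatom (MulAction.stabilizer G ω)) (p : ℕ) [hp : Fact p.Prime]
    (hpd : p ∣ Fintype.card A)
    (hle : (Finset.univ.filter (fun a : A => a ^ p = 1)).card ≤ p)
    (hex : ∃ a : A, a ^ p ≠ 1)
    (T T' : Finset A) (hT : SInv ι ω (fun x => x ∈ T)) (hT' : SInv ι ω (fun x => x ∈ T'))
    (hne : T.Nonempty) (hne' : T'.Nonempty) (h1 : (1 : A) ∉ T) (h1' : (1 : A) ∉ T')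
    (hdisj : Disjoint T T')
    (horb : ∀ x ∈ T', ∀ y ∈ T', ∃ h : G, h • ω = ω ∧ h • ι x • ω = ι y • ω) : False := by
  obtain ⟨s, hsT, hsp⟩ := exists_mem_pow_eq_one hb hmax p hpd hle T hT hne h1
  have hs1 : s ≠ 1 := fun h => h1 (h ▸ hsT)
  have hsip : s⁻¹ ^ p = 1 := by rw [inv_pow, hsp, inv_one]
  have hsi1 : s⁻¹ ≠ 1 := fun h => hs1 (inv_eq_one.mp h)
  -- an element of `T'` outside `P₀`
  obtain ⟨y, hyT, hyp⟩ : ∃ y ∈ T', y ^ p ≠ 1 := by
    by_contra hcon
    push Not at hcon
    have hcl : Subgroup.closure (T' : Set A) ≤ (powMonoidHom p : A →* A).ker := by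
      rw [Subgroup.closure_le]
      intro t ht
      exact hcon t ht
    rcases subgroup_eq_bot_or_top hb hmax _ (sinv_closure hb (T' : Set A) hT') with h | h
    · obtain ⟨t, ht⟩ := hne'
      have : t ∈ Subgroup.closure (T' : Set A) := Subgroup.subset_closure ht
      rw [h, Subgroup.mem_bot] at this
      exact h1' (this ▸ ht)
    · obtain ⟨a, ha⟩ := hex
      have : a ∈ Subgroup.closure (T' : Set A) := by rw [h]; trivial
      exact ha (hcl this)
  set E : A → Finset A := fun g => Finset.univ.filter (fun a => a ∈ T ∧ a⁻¹ * g ∈ T') with hE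
  have hEinv : SInv ι ω (fun g => (E g).card) := by
    have hf : SInv ι ω (fun x => if x ∈ T then (1 : ℕ) else 0) := by
      intro h hh x y hxy
      have : (x ∈ T) = (y ∈ T) := hT h hh x y hxy
      simp only [this]
    have hf' : SInv ι ω (fun x => if x ∈ T' then (1 : ℕ) else 0) := by
      intro h hh x y hxy
      have : (x ∈ T') = (y ∈ T') := hT' h hh x y hxy
      simp only [this]
    have := SInv.conv hb hf hf'
    have e : (fun g => (E g).card) =
        fun x => ∑ a, (if a ∈ T then (1 : ℕ) else 0) * (if a⁻¹ * x ∈ T' then (1 : ℕ) else 0) := by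
      funext g
      rw [hE, Finset.card_filter]
      apply Finset.sum_congr rfl
      intro a _
      by_cases h1 : a ∈ T <;> by_cases h2 : a⁻¹ * g ∈ T' <;> simp [h1, h2]
    rw [e]
    exact this
  set Q : A → A → Prop := fun g a => a ^ p ≠ 1 ∧ (a⁻¹ * g) ^ p ≠ 1 with hQ
  have hE1 : ∀ g, p ∣ ((E g).filter (Q g)).card := by
    intro g
    apply dvd_card_of_mul_closed p _ s hsp hs1
    intro a ha
    rw [Finset.mem_filter, Finset.mem_filter] at ha ⊢
    obtain ⟨⟨_, haT, haT'⟩, ha1, ha2⟩ := ha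
    have e1 : (a * s)⁻¹ * g = a⁻¹ * g * s⁻¹ := by
      rw [mul_inv, mul_assoc, mul_comm s⁻¹ g, mul_assoc]
    refine ⟨⟨Finset.mem_univ _, ruleP hb hmax p hpd hle T hT haT ha1 hsp, ?_⟩, ?_, ?_⟩
    · rw [e1]
      exact ruleP hb hmax p hpd hle T' hT' haT' ha2 hsip
    · rw [mul_pow, hsp, mul_one]; exact ha1
    · rw [e1, mul_pow, hsip, mul_one]; exact ha2
  have hsplit : ∀ g, (E g).card = ((E g).filter (Q g)).card + ((E g).filter (fun a => ¬ Q g a)).card :=
    fun g => (Finset.card_filter_add_card_filter_not (s := E g) (Q g)).symm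
  have hy2 : (E y).filter (fun a => ¬ Q y a) = T.filter (fun a => a ^ p = 1) := by
    ext a
    simp only [hE, hQ, Finset.mem_filter, Finset.mem_univ, true_and, not_and_or, not_not]
    constructor
    · rintro ⟨⟨haT, haT'⟩, h | h⟩
      · exact ⟨haT, h⟩
      · exfalso
        have : y * (a⁻¹ * y)⁻¹ ∈ T' :=
          ruleP hb hmax p hpd hle T' hT' hyT hyp (by rw [inv_pow, h, inv_one])
        rw [mul_inv, inv_inv, mul_comm a, mul_inv_cancel_left] at this
        exact (Finset.disjoint_left.mp hdisj haT) this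
    · rintro ⟨haT, h⟩
      refine ⟨⟨haT, ?_⟩, Or.inl h⟩
      rw [mul_comm]
      exact ruleP hb hmax p hpd hle T' hT' hyT hyp (by rw [inv_pow, h, inv_one])
  have hx2 : ∀ x, x ^ p = 1 → (E x).filter (fun a => ¬ Q x a) =
      T.filter (fun a => a ^ p = 1 ∧ a⁻¹ * x ∈ T') := by
    intro x hx
    ext a
    simp only [hE, hQ, Finset.mem_filter, Finset.mem_univ, true_and, not_and_or, not_not]
    constructor
    · rintro ⟨⟨haT, haT'⟩, h | h⟩
      · exact ⟨haT, h, haT'⟩
      · refine ⟨haT, ?_, haT'⟩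
        rw [mul_pow, hx, mul_one, inv_pow, inv_eq_one] at h
        exact h
    · rintro ⟨haT, h, haT'⟩
      exact ⟨⟨haT, haT'⟩, Or.inl h⟩
  have hlt : (T.filter (fun a => a ^ p = 1)).card < p := card_filter_lt p hle T h1
  have key : ∀ x ∈ T', x ^ p = 1 → s⁻¹ * x ∈ T' := by
    intro x hxT hx
    obtain ⟨h, hh, hxy⟩ := horb x hxT y hyT
    have hc : (E x).card = (E y).card := hEinv h hh x y hxy
    rw [hsplit x, hsplit y, hy2, hx2 x hx] at hc
    have hsub : T.filter (fun a => a ^ p = 1 ∧ a⁻¹ * x ∈ T') ⊆ T.filter (fun a => a ^ p = 1) := by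
      intro a ha
      rw [Finset.mem_filter] at ha ⊢
      exact ⟨ha.1, ha.2.1⟩
    have hle2 := Finset.card_le_card hsub
    obtain ⟨k₁, hk₁⟩ := hE1 x
    obtain ⟨k₂, hk₂⟩ := hE1 y
    rw [hk₁, hk₂] at hc
    have hcard : (T.filter (fun a => a ^ p = 1)).card ≤
        (T.filter (fun a => a ^ p = 1 ∧ a⁻¹ * x ∈ T')).card := by
      set m₁ := (T.filter (fun a => a ^ p = 1 ∧ a⁻¹ * x ∈ T')).card
      set m₂ := (T.filter (fun a => a ^ p = 1)).card
      have h5 : m₁ % p = m₂ % p := by
        have := congrArg (· % p) hc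
        simpa [Nat.mul_add_mod] using this
      rw [Nat.mod_eq_of_lt (lt_of_le_of_lt hle2 hlt), Nat.mod_eq_of_lt hlt] at h5
      exact h5.ge
    have heq := Finset.eq_of_subset_of_card_le hsub hcard
    have hs : s ∈ T.filter (fun a => a ^ p = 1) := by
      rw [Finset.mem_filter]; exact ⟨hsT, hsp⟩
    rw [← heq, Finset.mem_filter] at hs
    exact hs.2.2
  have hX : p ∣ (T'.filter (fun a => a ^ p = 1)).card := by
    apply dvd_card_of_mul_closed p _ s⁻¹ hsip hsi1
    intro a ha
    rw [Finset.mem_filter] at ha ⊢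
    refine ⟨?_, ?_⟩
    · rw [mul_comm]; exact key a ha.1 ha.2
    · rw [mul_pow, ha.2, hsip, one_mul]
  have hXlt : (T'.filter (fun a => a ^ p = 1)).card < p := card_filter_lt p hle T' h1'
  obtain ⟨x, hxT, hxp⟩ := exists_mem_pow_eq_one hb hmax p hpd hle T' hT' hne' h1'
  have hXpos : 0 < (T'.filter (fun a => a ^ p = 1)).card :=
    Finset.card_pos.mpr ⟨x, by rw [Finset.mem_filter]; exact ⟨hxT, hxp⟩⟩
  exact absurd (Nat.le_of_dvd hXpos hX) (not_le.mpr hXlt)

/-- **Schur's theorem** (with Burnside's prime power case): if `A` is cyclic of composite order,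
regular, and the point stabilizer is maximal, then the stabilizer is transitive on the other
points. -/
theorem schur (hb : Function.Bijective (fun a : A => ι a • ω))
    (hmax : IsCoatom (MulAction.stabilizer G ω)) [IsCyclic A]
    (hcomp : ¬ (Fintype.card A).Prime) (a b : A) (ha : a ≠ 1) (hb' : b ≠ 1) :
    ∃ h : G, h • ω = ω ∧ h • ι a • ω = ι b • ω := by
  classical
  set n := Fintype.card A with hn
  have hn1 : n ≠ 1 := by
    intro h
    have : Subsingleton A := Fintype.card_le_one_iff_subsingleton.mp h.le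
    exact ha (Subsingleton.elim _ _)
  set p := n.minFac with hpdef
  have hp : Fact p.Prime := ⟨Nat.minFac_prime hn1⟩
  have hpd : p ∣ Fintype.card A := Nat.minFac_dvd n
  have hle : ∀ r : ℕ, 0 < r → (Finset.univ.filter (fun a : A => a ^ r = 1)).card ≤ r :=
    fun r hr => IsCyclic.card_pow_eq_one_le hr
  set Orb : A → Finset A :=
    fun c => Finset.univ.filter (fun x => ∃ h : G, h • ω = ω ∧ h • ι c • ω = ι x • ω) with hOrb
  have hmem : ∀ c x, x ∈ Orb c ↔ ∃ h : G, h • ω = ω ∧ h • ι c • ω = ι x • ω := by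
    intro c x; simp [hOrb]
  have hself : ∀ c, c ∈ Orb c := fun c => (hmem c c).mpr ⟨1, one_smul _ _, one_smul _ _⟩
  have hinv : ∀ c, SInv ι ω (fun x => x ∈ Orb c) := by
    intro c
    apply sinv_of_imp
    intro k hk x y hxy hx
    obtain ⟨h, hh, hcx⟩ := (hmem c x).mp hx
    exact (hmem c y).mpr ⟨k * h, by rw [mul_smul, hh, hk], by rw [mul_smul, hcx, hxy]⟩
  have hone : ∀ c, c ≠ 1 → (1 : A) ∉ Orb c := by
    intro c hc h
    obtain ⟨h, hh, hc1⟩ := (hmem c 1).mp h
    have : (c = 1) = ((1 : A) = 1) := sinv_eq_one hb h hh c 1 hc1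
    exact hc (by rw [this])
  have hconn : ∀ c x y, x ∈ Orb c → y ∈ Orb c → ∃ h : G, h • ω = ω ∧ h • ι x • ω = ι y • ω := by
    intro c x y hx hy
    obtain ⟨h, hh, hcx⟩ := (hmem c x).mp hx
    obtain ⟨k, hk, hcy⟩ := (hmem c y).mp hy
    refine ⟨k * h⁻¹, ?_, ?_⟩
    · rw [mul_smul, inv_smul_eq_iff.mpr hh.symm, hk]
    · rw [mul_smul, ← hcx, inv_smul_smul, hcy]
  have hcommon : ∀ x, x ∈ Orb a → x ∈ Orb b → ∃ h : G, h • ω = ω ∧ h • ι a • ω = ι b • ω := by
    intro x hxa hxb
    obtain ⟨h, hh, h1⟩ := (hmem a x).mp hxa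
    obtain ⟨k, hk, h2⟩ := (hmem b x).mp hxb
    refine ⟨k⁻¹ * h, ?_, ?_⟩
    · rw [mul_smul, hh, inv_smul_eq_iff, hk]
    · rw [mul_smul, h1, ← h2, inv_smul_smul]
  by_cases hq : ∃ q, q.Prime ∧ q ∣ n ∧ q ≠ p
  · obtain ⟨q, hqp, hqd, hqne⟩ := hq
    have : Fact q.Prime := ⟨hqp⟩
    obtain ⟨u, hu⟩ := exists_prime_orderOf_dvd_card p hpd
    have hup : u ^ p = 1 := by rw [← hu]; exact pow_orderOf_eq_one u
    have hu1 : u ≠ 1 := by
      intro h
      rw [h, orderOf_one] at hu
      exact hp.out.one_lt.ne hu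
    have h1 := mem_of_two_primes hb hmax p q hqne.symm hpd hqd (hle p hp.out.pos) (hle q hqp.pos)
      (Orb a) (hinv a) ⟨a, hself a⟩ (hone a ha) hup hu1
    have h2 := mem_of_two_primes hb hmax p q hqne.symm hpd hqd (hle p hp.out.pos) (hle q hqp.pos)
      (Orb b) (hinv b) ⟨b, hself b⟩ (hone b hb') hup hu1
    exact hcommon u h1 h2
  · push Not at hq
    by_cases hd : Disjoint (Orb a) (Orb b)
    · exfalso
      have hn0 : n ≠ 0 := Fintype.card_ne_zero
      have hpow : n = p ^ n.primeFactorsList.length :=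
        Nat.eq_prime_pow_of_unique_prime_dvd hn0 (fun {d} hd hdn => hq d hd hdn)
      have hex : ∃ c : A, c ^ p ≠ 1 := by
        by_contra hcon
        push Not at hcon
        have h1 : Finset.univ.filter (fun a : A => a ^ p = 1) = Finset.univ := by
          ext c; simp [hcon c]
        have h2 := hle p hp.out.pos
        rw [h1, Finset.card_univ] at h2
        have h3 : n = p := le_antisymm h2 (Nat.le_of_dvd (Nat.pos_of_ne_zero hn0) hpd)
        exact hcomp (h3 ▸ hp.out)
      exact false_of_disjoint hb hmax p hpd (hle p hp.out.pos) hex (Orb a) (Orb b) (hinv a) (hinv b)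
        ⟨a, hself a⟩ ⟨b, hself b⟩ (hone a ha) (hone b hb') hd (fun x hx y hy => hconn b x y hx hy)
    · rw [Finset.not_disjoint_iff] at hd
      obtain ⟨x, hxa, hxb⟩ := hd
      exact hcommon x hxa hxb

end main

/-- Schur's theorem for a primitive action with a regular cyclic subgroup of composite order. -/
theorem two_transitive_of_regular_cyclic {G Ω : Type*} [Group G] [MulAction G Ω] [Finite Ω]
    (hprim : MulAction.IsPreprimitive G Ω) (C : Subgroup G) (hcyc : IsCyclic C)
    (htr : MulAction.IsPretransitive C Ω) (hreg : ∀ a : Ω, MulAction.stabilizer C a = ⊥)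
    (hcomp : ¬ (Nat.card Ω).Prime) (h2 : 2 ≤ Nat.card Ω) :
    MulAction.IsMultiplyPretransitive G Ω 2 := by
  classical
  have hne : Nontrivial Ω := by
    rw [← Finite.one_lt_card_iff_nontrivial]; omega
  obtain ⟨ω⟩ : Nonempty Ω := inferInstance
  let _ : CommGroup C := IsCyclic.commGroup
  have hb : Function.Bijective (fun a : C => C.subtype a • ω) := by
    constructor
    · intro a b hab
      have h1 : (a⁻¹ * b) • ω = ω := by
        rw [mul_smul, inv_smul_eq_iff]
        exact hab.symm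
      have h2 : a⁻¹ * b ∈ MulAction.stabilizer C ω := h1
      rw [hreg ω, Subgroup.mem_bot] at h2
      exact (inv_mul_eq_one.mp h2)
    · intro x
      obtain ⟨c, hc⟩ := MulAction.exists_smul_eq C ω x
      exact ⟨c, hc⟩
  have hfin : Finite C := Finite.of_injective _ hb.1
  have : Fintype C := Fintype.ofFinite C
  have hcard : Fintype.card C = Nat.card Ω := by
    rw [← Nat.card_eq_fintype_card]
    exact Nat.card_congr (Equiv.ofBijective _ hb)
  have hmax : IsCoatom (MulAction.stabilizer G ω) :=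
    MulAction.IsPreprimitive.isCoatom_stabilizer_of_isPreprimitive G ω
  have key := fun a b ha hb' => schur (ι := C.subtype) (ω := ω) hb hmax (hcard ▸ hcomp) a b ha hb'
  have htrG : MulAction.IsPretransitive G Ω := hprim.toIsPretransitive
  rw [MulAction.is_two_pretransitive_iff]
  intro a b c d hab hcd
  obtain ⟨g₁, hg₁⟩ := MulAction.exists_smul_eq G a ω
  obtain ⟨g₂, hg₂⟩ := MulAction.exists_smul_eq G c ω
  obtain ⟨x, hx⟩ := hb.2 (g₁ • b)
  obtain ⟨y, hy⟩ := hb.2 (g₂ • d)
  have hx1 : x ≠ 1 := by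
    intro h
    rw [h] at hx
    simp only [map_one, one_smul] at hx
    rw [← hg₁] at hx
    exact hab (smul_left_cancel g₁ hx)
  have hy1 : y ≠ 1 := by
    intro h
    rw [h] at hy
    simp only [map_one, one_smul] at hy
    rw [← hg₂] at hy
    exact hcd (smul_left_cancel g₂ hy)
  obtain ⟨h, hh, hxy⟩ := key x y hx1 hy1
  refine ⟨g₂⁻¹ * h * g₁, ?_, ?_⟩
  · rw [mul_smul, mul_smul, hg₁, hh, inv_smul_eq_iff, hg₂]
  · have hx' : C.subtype x • ω = g₁ • b := hx
    have hy' : C.subtype y • ω = g₂ • d := hy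
    rw [mul_smul, mul_smul, ← hx', hxy, hy', inv_smul_smul]

end Cfsg.Agent.Lib.Helper59.Schur
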