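import Mathlib
import Cfsg.Agent.Lib.Helper15.Ward.Defs
import Cfsg.Agent.Lib.Helper77.WardD

/-!
# Ward's theorem (S3796), piece F: quotients
-/

set_option autoImplicit false

namespace Cfsg.Agent.Lib.Helper59.WardF

open Subgroup Cfsg.Agent.Lib.Helper88 Cfsg.Agent.Lib.Helper15.Ward

theorem Hyp.quot {Γ : Type*} [Group Γ] [Finite Γ] {p : ℕ} [Fact p.Prime] {G A : Subgroup Γ}
    (h : Hyp p G A) (N : Subgroup Γ) [N.Normal] :
    Hyp p (G.map (QuotientGroup.mk' N)) (A.map (QuotientGroup.mk' N)) := by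
  have hGn : G.Normal := h.normal
  have hA : IsPGroup p A := Cfsg.Agent.Lib.Helper22.isPGroup_of_pow_eq_one h.exp
  have hnd : ¬ p ∣ Nat.card G := Cfsg.Agent.Lib.Helper77.Ward.Hyp.not_dvd h
  refine
    { normal := hGn.map _ (QuotientGroup.mk'_surjective N)
      sup := ?_
      sol := ?_
      comm := ?_
      exp := ?_
      card := ?_
      fix := ?_ }
  · rw [← Subgroup.map_sup, h.sup, Subgroup.map_top_of_surjective _ (QuotientGroup.mk'_surjective N)]
  · have := h.sol
    exact Group.isSolvable_of_surjective ((QuotientGroup.mk' N).subgroupMap_surjective G)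
  · rintro _ ⟨x, hx, rfl⟩ _ ⟨y, hy, rfl⟩
    rw [← map_mul, ← map_mul, h.comm x hx y hy]
  · rintro _ ⟨x, hx, rfl⟩
    rw [← map_pow, h.exp x hx, map_one]
  · exact (Subgroup.card_map_dvd A _).trans h.card
  · rw [Cfsg.Agent.Lib.Helper22.map_inf_centralizer_map A G N hA, h.fix, Subgroup.map_bot]
    · intro hd
      exact hnd (hd.trans (Subgroup.card_dvd_of_le inf_le_left))
    · rw [normalizer_eq_top]
      exact le_top

theorem Meta.of_quot {Γ : Type*} [Group Γ] {G : Subgroup Γ} [G.Normal] (N : Subgroup Γ) [N.Normal]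
    (h : Meta (G.map (QuotientGroup.mk' N))) :
    ∃ F : Subgroup Γ, F.Normal ∧ F ≤ G ∧ (∃ k, F.lowerCentralSeries k ≤ N) ∧
      ∃ k, G.lowerCentralSeries k ≤ F := by
  obtain ⟨Fb, hFn, hFG, ⟨k, hk⟩, ⟨l, hl⟩⟩ := h
  refine ⟨Fb.comap (QuotientGroup.mk' N) ⊓ G, ?_, inf_le_right, ⟨k, ?_⟩, ⟨l, ?_⟩⟩
  · have : (Fb.comap (QuotientGroup.mk' N)).Normal := hFn.comap _
    infer_instance
  · have h1 : ((Fb.comap (QuotientGroup.mk' N) ⊓ G).lowerCentralSeries k).map (QuotientGroup.mk' N)
        ≤ ⊥ := by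
      rw [map_lowerCentralSeries, ← hk]
      apply lowerCentralSeries_mono
      rw [Subgroup.map_le_iff_le_comap]
      exact inf_le_left
    rw [Subgroup.map_le_iff_le_comap, MonoidHom.comap_bot, QuotientGroup.ker_mk'] at h1
    exact h1
  · refine le_inf ?_ ?_
    · rw [← Subgroup.map_le_iff_le_comap, map_lowerCentralSeries]
      exact hl
    · have := Subgroup.lowerCentralSeries_antitone G (Nat.zero_le l)
      simpa using this

theorem card_map_lt {Γ : Type*} [Group Γ] [Finite Γ] (G N : Subgroup Γ) [N.Normal]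
    (h : G ⊓ N ≠ ⊥) : Nat.card (G.map (QuotientGroup.mk' N)) < Nat.card G := by
  have h1 : Nat.card (G.map (QuotientGroup.mk' N)) = N.relIndex G := by
    rw [← Subgroup.relIndex_ker, QuotientGroup.ker_mk']
  have h2 : Nat.card (G ⊓ N : Subgroup Γ) * N.relIndex G = Nat.card G := by
    have := Subgroup.relIndex_mul_relIndex ⊥ (G ⊓ N) G bot_le inf_le_left
    rwa [Subgroup.relIndex_bot_left, Subgroup.relIndex_bot_left, Subgroup.inf_relIndex_left] at this
  have h3 : 1 < Nat.card (G ⊓ N : Subgroup Γ) := by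
    rw [Subgroup.one_lt_card_iff_ne_bot]; exact h
  have h4 : 0 < N.relIndex G := by
    rw [← h1]; exact Nat.card_pos
  rw [h1, ← h2]
  nlinarith

end Cfsg.Agent.Lib.Helper59.WardF
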