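import Mathlib
import Cfsg.Agent.Lib.Helper15.Ward.Defs
import Cfsg.Agent.Lib.Helper77.WardD
import Cfsg.Agent.Lib.Helper73.WardE1
import Cfsg.Agent.Lib.Helper59.WardF
import Cfsg.Agent.Lib.Helper12.WardH

/-!
# Ward's theorem (S3796), piece I: the induction
-/

set_option autoImplicit false

namespace Cfsg.Agent.Lib.Helper59.Ward

open Subgroup Cfsg.Agent.Lib.Helper88 Cfsg.Agent.Lib.Helper15.Ward

universe u

theorem ward_aux (p : ℕ) [Fact p.Prime] (n : ℕ) :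
    ∀ (Γ : Type u) [Group Γ] [Finite Γ] (G A : Subgroup Γ), Hyp p G A → Nat.card G = n → Meta G := by
  induction n using Nat.strong_induction_on with
  | _ n ih =>
  intro Γ _ _ G A h hn
  classical
  have hGn : G.Normal := h.normal
  by_cases hA2 : Nat.card A = p ^ 2
  swap
  · have hnil := Cfsg.Agent.Lib.Helper77.Ward.isNilpotent_of_card_ne h hA2
    exact ⟨G, hGn, le_rfl, (isNilpotent_iff_lowerCentralSeries G).1 hnil, ⟨0, le_rfl⟩⟩
  by_cases hG1 : G = ⊥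
  · refine ⟨⊥, inferInstance, bot_le, ⟨0, rfl⟩, ⟨0, ?_⟩⟩
    rw [hG1]; exact le_rfl
  -- a minimal normal subgroup inside `G`
  let 𝒮 : Set (Subgroup Γ) := {M | M.Normal ∧ M ≤ G ∧ M ≠ ⊥}
  obtain ⟨V, hV⟩ := (Set.toFinite 𝒮).exists_minimal ⟨G, hGn, le_rfl, hG1⟩
  obtain ⟨hVn, hVG, hV1⟩ := hV.prop
  have hmin : ∀ M : Subgroup Γ, M.Normal → M ≤ V → M = ⊥ ∨ M = V := by
    intro M hMn hMV
    by_cases hM : M = ⊥
    · exact Or.inl hM
    · exact Or.inr (le_antisymm hMV (hV.le_of_le ⟨hMn, hMV.trans hVG, hM⟩ hMV))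
  have hVsol : Group.IsSolvable V := by
    have := h.sol
    exact Group.isSolvable_of_isSolvable_injective (f := Subgroup.inclusion hVG) (Subgroup.inclusion_injective hVG)
  obtain ⟨hVc, -⟩ := Cfsg.Agent.Lib.Helper73.Ward.minimal_normal_structure V hVsol hV1 hmin
  -- the quotient by `V`
  have hGV : G ⊓ V ≠ ⊥ := by rw [inf_eq_right.2 hVG]; exact hV1
  obtain ⟨F1, hF1n, hF1G, ⟨k1, hk1⟩, ⟨l1, hl1⟩⟩ := WardF.Meta.of_quot (G := G) V
    (ih _ (hn ▸ WardF.card_map_lt G V hGV) (Γ ⧸ V) _ _ (WardF.Hyp.quot h V) rfl)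
  -- the quotient by `C = C(V)`
  let C : Subgroup Γ := centralizer (V : Set Γ)
  have hCn : C.Normal := inferInstance
  have hVC : V ≤ C := by
    intro x hx
    rw [mem_centralizer_iff]
    intro y hy
    exact hVc y hy x hx
  have hGC : G ⊓ C ≠ ⊥ := by
    intro hbot
    apply hV1
    rw [eq_bot_iff, ← hbot]
    exact le_inf hVG hVC
  obtain ⟨E, hEn, hEG, hE, hGE⟩ := WardF.Meta.of_quot (G := G) C
    (ih _ (hn ▸ WardF.card_map_lt G C hGC) (Γ ⧸ C) _ _ (WardF.Hyp.quot h C) rfl)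
  obtain ⟨k3, hk3⟩ := Cfsg.Agent.Lib.Helper12.Ward.star_amb h hA2 V hVG hV1 hmin E hEn hEG hE hGE
  refine ⟨F1 ⊓ C, inferInstance, inf_le_left.trans hF1G, ⟨k1 + 1, ?_⟩, ⟨max l1 k3, ?_⟩⟩
  · rw [eq_bot_iff, Subgroup.lowerCentralSeries_succ]
    have h1 : (F1 ⊓ C).lowerCentralSeries k1 ≤ V :=
      (lowerCentralSeries_mono k1 (inf_le_left : F1 ⊓ C ≤ F1)).trans hk1
    have h2 : ⁅V, C⁆ = ⊥ := by
      rw [commutator_comm, commutator_eq_bot_iff_le_centralizer]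
    rw [← h2]
    exact commutator_mono h1 inf_le_right
  · exact le_inf ((Subgroup.lowerCentralSeries_antitone G (le_max_left l1 k3)).trans hl1)
      ((Subgroup.lowerCentralSeries_antitone G (le_max_right l1 k3)).trans hk3)

end Cfsg.Agent.Lib.Helper59.Ward
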